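import Groth.Prelude.Def_RelProj
import Groth.Agent.NormX.RelDescent
import Groth.Agent.SGA1Q.Properties
import Groth.Agent.SGA1Q.Exists
import Groth.Agent.AmpleX.FiniteSet

/-!
# The norm of a finite group quotient, and descent of relative ampleness along it
-/

noncomputable section

universe u

open CategoryTheory AlgebraicGeometry TopologicalSpace Opposite
open Groth.Agent

set_option linter.style.haveILetI false
set_option backward.isDefEq.respectTransparency false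
set_option backward.isDefEq.respectTransparency.types false

namespace Groth.Agent.NormX

variable {X X' Y : Scheme.{u}} (f : X ⟶ Y) [QuasiCompact f] (g : X' ⟶ X) [IsFinite g] [Surjective g]

/-- Descent of relative ampleness along a finite surjection with a norm. -/
theorem exists_isRelAmple_of_wnorm (N : WNorm g)
    {L' : X'.Modules} (h : RelAmple.IsRelAmple (g ≫ f) L') :
    ∃ L : X.Modules, PicF.IsInvertible L ∧ RelAmple.IsRelAmple f L := by
  have hi := AmpleX.isInvertible_of_isRelAmple h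
  obtain ⟨M, hM, hsec⟩ := exists_normLine N hi
  refine ⟨M, hM, inferInstance, fun V => (AmpleX.isAmple_restrict_iff _ hM).2
    ⟨isCompact_iff_compactSpace.mp (f.isCompact_preimage V.2.isCompact), fun z => ?_⟩⟩
  let O := f ⁻¹ᵁ V.1
  let j := (g ⁻¹ᵁ O).ι
  have hA : CohB1.IsAmple (L'.restrict j) := h.2 V
  haveI := AmpleX.isSeparated_of_isAmple hA
  obtain ⟨_, ⟨W, hW, rfl⟩, hzW, hWO⟩ :=
    X.isBasis_affineOpens.exists_subset_of_mem_open (show O.ι z ∈ O from z.2) O.2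
  have hfin : ((j.base ⁻¹' (g.base ⁻¹' {O.ι z}))).Finite :=
    (g.finite_preimage_singleton _).preimage j.isOpenEmbedding.injective.injOn
  obtain ⟨n, s, hZ, hsW, -⟩ := AmpleX.exists_finite_nhd hA (Z := j.base ⁻¹' (g.base ⁻¹' {O.ι z})) hfin
    (U := j ⁻¹ᵁ (g ⁻¹ᵁ W)) fun w (hw : g (j w) = O.ι z) => show g (j w) ∈ W from hw ▸ hzW
  obtain ⟨a, ha⟩ := AmpleX.exists_section_extendable j s
  obtain ⟨b, hb⟩ := hsec (n + 1) O (AModX.res _ (g ⁻¹ᵁ O).ι_image_top.ge a)
  simp only [AmpleX.locus_res] at hb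
  refine ⟨n + 1, n.succ_pos, AModX.res _ O.ι_image_top.le b, ?_⟩
  rw [AmpleX.locus_res, inf_eq_left.2 ((AmpleX.locus_le b).trans O.ι_image_top.ge)]
  have hle : AmpleX.locus b ≤ W := fun y hy => by
    obtain ⟨x, rfl⟩ := g.surjective y
    obtain ⟨w, hw, rfl⟩ := ha.le ((((hb _).1 hy).2 x rfl).1)
    exact hsW hw
  refine ⟨(hb _).2 ⟨z.2, fun x hx => ?_⟩, ?_⟩
  · have hxO : x ∈ g ⁻¹ᵁ O := show g x ∈ O from hx.symm ▸ z.2
    refine ⟨ha.ge ⟨⟨x, hxO⟩, hZ ?_, rfl⟩, hxO⟩
    exact show g x = O.ι z from hx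
  · rw [← inf_eq_right.2 hle]
    exact AmpleX.isAffineOpen_inf_locus (InvX.isInvertible_tensorPow hM _) hW b hWO

end Groth.Agent.NormX

namespace SGA1Q

variable {X Y : Scheme.{u}} {G : Type u} [Group G] [Finite G] {ρ : G →* Aut X} {p : X ⟶ Y}

/-- The norm of a quotient by a finite group: the product of the translates. -/
theorem exists_wnorm_of_isQuot (hp : SGA1.IsQuot ρ p) : Nonempty (NormX.WNorm p) := by
  classical
  letI := Fintype.ofFinite G
  let tr : ∀ (U : Y.Opens) (g : G), Γ(X, p ⁻¹ᵁ U) →+* Γ(X, p ⁻¹ᵁ U) := fun U g =>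
    ((ρ g).hom.appLE (p ⁻¹ᵁ U) (p ⁻¹ᵁ U) (SGA1.preimage_le_of_inv ρ p hp.inv g U)).hom
  let P : ∀ U : Y.Opens, Γ(X, p ⁻¹ᵁ U) →* Γ(X, p ⁻¹ᵁ U) := fun U =>
    { toFun := fun s => ∏ g : G, tr U g s
      map_one' := by simp
      map_mul' := fun a b => by simp [Finset.prod_mul_distrib] }
  have htr : ∀ (U : Y.Opens) (g h : G) (s : Γ(X, p ⁻¹ᵁ U)), tr U h (tr U g s) = tr U (g * h) s := by
    intro U g h s
    show (((ρ g).hom.appLE _ _ _) ≫ ((ρ h).hom.appLE _ _ _)).hom s = _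
    rw [Scheme.Hom.appLE_comp_appLE]
    exact congr(($(appLE_congr_hom (hom_mul (ρ := ρ) g h).symm _ _)).hom s)
  have hP : ∀ (U : Y.Opens) (s : Γ(X, p ⁻¹ᵁ U)), ∃ t, (p.app U).hom t = P U s := by
    intro U s
    refine (hp.range_iff U _).2 fun h => ?_
    show tr U h (∏ g : G, tr U g s) = ∏ g : G, tr U g s
    rw [map_prod]
    simp only [htr]
    exact Equiv.prod_comp (Equiv.mulRight h) (fun g => tr U g s)
  choose N hN using hP
  refine ⟨{
    norm := fun U => { toFun := N U, map_one' := ?_, map_mul' := fun a b => ?_ }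
    norm_res := ?_
    norm_mem := ?_ }⟩
  · exact hp.injective U (by rw [hN, map_one, map_one])
  · exact hp.injective U (by rw [hN, map_mul, map_mul, hN, hN])
  · intro U V i s
    apply hp.injective V
    show (p.app V).hom ((Y.presheaf.map i.op).hom (N U s)) = (p.app V).hom (N V _)
    rw [hN]
    have e := congr(($(p.naturality i.op)).hom (N U s))
    refine e.trans ?_
    show (X.presheaf.map _).hom ((p.app U).hom (N U s)) = ∏ g : G, _
    rw [hN]
    show (X.presheaf.map _).hom (∏ g : G, tr U g s) = _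
    rw [map_prod]
    refine Finset.prod_congr rfl fun g _ => ?_
    show (((ρ g).hom.appLE _ _ _) ≫ X.presheaf.map _).hom s =
      (X.presheaf.map _ ≫ ((ρ g).hom.appLE _ _ _)).hom s
    rw [Scheme.Hom.appLE_map, Scheme.Hom.map_appLE]
  · intro U s x hx hs
    rw [IsLocalRing.mem_maximalIdeal, mem_nonunits_iff] at hs ⊢
    intro ht
    apply hs
    have h1 : IsUnit (X.presheaf.germ (p ⁻¹ᵁ U) x hx ((p.app U).hom (N U s))) := by
      rw [← Scheme.Hom.germ_stalkMap_apply]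
      exact ht.map (p.stalkMap x).hom
    rw [hN] at h1
    have h2 : IsUnit (X.presheaf.germ (p ⁻¹ᵁ U) x hx (∏ g : G, tr U g s)) := h1
    rw [map_prod] at h2
    have h3 := isUnit_of_dvd_unit (Finset.dvd_prod_of_mem _ (Finset.mem_univ (1 : G))) h2
    have h4 : tr U 1 s = s := by
      show ((ρ 1).hom.appLE _ _ _).hom s = s
      rw [appLE_congr_hom (show (ρ (1 : G)).hom = 𝟙 X from hom_one ρ)
        (SGA1.preimage_le_of_inv ρ p hp.inv 1 U) (le_refl (p ⁻¹ᵁ U))]
      simp [Scheme.Hom.appLE]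
      exact congr(($(X.presheaf.map_id _)).hom s)
    exact h4 ▸ h3

/-- A finite group acting over `S` on a quasi-projective scheme has a quasi-projective quotient. -/
theorem exists_quasiProjective_quotient {S : Scheme.{u}} [IsNoetherian S] (f : X ⟶ S) (ρ : G →* Aut X)
    (hρ : ∀ σ : G, (ρ σ).hom ≫ f = f) (hf : RelProj.IsQuasiProjective f) :
    ∃ (Y : Scheme.{u}) (q : X ⟶ Y) (h : Y ⟶ S),
      q ≫ h = f ∧ SGA1.IsQuot ρ q ∧ RelProj.IsQuasiProjective h := by
  obtain ⟨hft, hqc, L, hL⟩ := hf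
  have hAF : ∀ x : X, ∃ U : X.Opens, IsAffineOpen U ∧ ∀ g : G, (ρ g).hom x ∈ U := by
    intro x
    obtain ⟨_, ⟨V, hV, rfl⟩, hxV, -⟩ :=
      S.isBasis_affineOpens.exists_subset_of_mem_open (Set.mem_univ (f x)) isOpen_univ
    have hA : CohB1.IsAmple (L.restrict (f ⁻¹ᵁ V).ι) := hL.2 ⟨V, hV⟩
    haveI := AmpleX.isSeparated_of_isAmple hA
    have hmem : ∀ g : G, (ρ g).hom x ∈ f ⁻¹ᵁ V := fun g => by
      show f ((ρ g).hom x) ∈ V
      rw [show f ((ρ g).hom x) = f x from congr(($(hρ g)).base x)]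
      exact hxV
    let pts : G → (f ⁻¹ᵁ V).toScheme := fun g => ⟨(ρ g).hom x, hmem g⟩
    obtain ⟨n, s, hZ, -, hs⟩ := AmpleX.exists_finite_nhd hA (Z := Set.range pts) (Set.finite_range pts)
      (U := ⊤) (fun _ _ => trivial)
    exact ⟨(f ⁻¹ᵁ V).ι ''ᵁ CohB1.genLocus _ s, hs.image_of_isOpenImmersion _,
      fun g => ⟨pts g, hZ ⟨g, rfl⟩, rfl⟩⟩
  obtain ⟨Y, q, hq⟩ := exists_quotient ρ hAF
  obtain ⟨h, hh, -⟩ := desc_existsUnique_isQuot hq f hρ
  haveI := hqc
  haveI := isFinite_of_isQuot hq hh hft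
  haveI : Surjective q := ⟨surjective hq⟩
  haveI := quasiCompact_of_isQuot hq hh hqc
  obtain ⟨N⟩ := exists_wnorm_of_isQuot hq
  obtain ⟨M, -, hM⟩ := NormX.exists_isRelAmple_of_wnorm h q N (L' := L) (hh.symm ▸ hL)
  exact ⟨Y, q, h, hh, hq, locallyOfFiniteType_of_isQuot hq hh hft, inferInstance, M, hM⟩

end SGA1Q
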