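import Groth.Agent.SGA1Q.GeomTrans
import Groth.Agent.SGA1Q.Residue
import Groth.Agent.MorLib.UnivHomeo
import Mathlib.AlgebraicGeometry.Morphisms.SchemeTheoreticallyDominant

/-!
# Morphisms out of a quotient that are radicial
-/

set_option autoImplicit false

universe u

open CategoryTheory CategoryTheory.Limits AlgebraicGeometry

namespace SGA1Q

/-- The group is transitive on geometric points with the same image in the quotient. -/
theorem exists_smul_of_geometric {X Y : Scheme.{u}} {G : Type u} [Group G] [Finite G] {ρ : G →* Aut X}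
    {p : X ⟶ Y} (hp : SGA1.IsQuot ρ p) (Ω : Type u) [Field Ω] [IsAlgClosed Ω]
    (a b : Spec (CommRingCat.of Ω) ⟶ X) (h : a ≫ p = b ≫ p) : ∃ g : G, a ≫ (ρ g).hom = b :=
  geomTransitive p ρ hp.inv (fun a b h => (orbit_iff hp a b).1 h)
    (fun a => (normal_and_stabilizer_surjective hp a).1) (fun a σ hσ => by
      obtain ⟨g, e, he⟩ := (normal_and_stabilizer_surjective hp a).2 σ hσ
      refine ⟨g, ?_⟩
      rw [he, Spec.map_comp, Category.assoc, ← Scheme.Hom.SpecMap_residueFieldMap_fromSpecResidueField]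
      congr 1
      rw [← Iso.symm_hom]
      exact (Scheme.residueFieldCongr_fromSpecResidueField e.symm).symm) Ω a b h

/-- A criterion for `φ` to be radicial through a surjection onto its source. -/
theorem universallyInjective_of_geom {W V T : Scheme.{u}} (r : W ⟶ V) [Surjective r] (φ : V ⟶ T)
    (h : ∀ (Ω : Type u) [Field Ω] [IsAlgClosed Ω] (a b : Spec (CommRingCat.of Ω) ⟶ W),
      a ≫ r ≫ φ = b ≫ r ≫ φ → a ≫ r = b ≫ r) :
    UniversallyInjective φ := by
  refine (UniversallyInjective.iff_diagonal φ).2 ⟨fun z => ?_⟩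
  let μ := pullback.map (r ≫ φ) (r ≫ φ) φ φ r r (𝟙 T) (Category.comp_id _) (Category.comp_id _)
  haveI : MorphismProperty.IsStableUnderComposition @Surjective := ⟨fun _ _ _ _ => inferInstance⟩
  have hμ : Surjective μ := MorphismProperty.pullbackMap (P := @Surjective) ‹_› ‹_› rfl rfl
  obtain ⟨t, rfl⟩ := hμ.surj z
  let K := (pullback (r ≫ φ) (r ≫ φ)).residueField t
  let Ω := AlgebraicClosure K
  let τ : Spec (CommRingCat.of Ω) ⟶ pullback (r ≫ φ) (r ≫ φ) :=
    Spec.map (CommRingCat.ofHom (algebraMap K Ω)) ≫ (pullback (r ≫ φ) (r ≫ φ)).fromSpecResidueField t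
  have hab := h Ω (τ ≫ pullback.fst (r ≫ φ) (r ≫ φ)) (τ ≫ pullback.snd (r ≫ φ) (r ≫ φ))
    (by simp only [Category.assoc, pullback.condition])
  have hd : τ ≫ μ = ((τ ≫ pullback.fst (r ≫ φ) (r ≫ φ)) ≫ r) ≫ pullback.diagonal φ := by
    apply pullback.hom_ext
    · simp only [μ, Category.assoc, pullback.lift_fst, pullback.diagonal_fst, Category.comp_id]
    · simp only [μ, Category.assoc, pullback.lift_snd, pullback.diagonal_snd, Category.comp_id]
      simpa only [Category.assoc] using hab.symm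
  refine ⟨((τ ≫ pullback.fst (r ≫ φ) (r ≫ φ)) ≫ r) (IsLocalRing.closedPoint Ω), ?_⟩
  have hτ : τ (IsLocalRing.closedPoint Ω) = t := Scheme.fromSpecResidueField_apply t _
  refine Eq.trans ?_ (congrArg (fun w => μ w) hτ)
  exact (congr($(hd).base (IsLocalRing.closedPoint Ω))).symm

/-- If geometric points of `W` with the same image in `T` are conjugate, the map from the quotient
is radicial. -/
theorem universallyInjective_of_quot {W V T : Scheme.{u}} {G : Type u} [Group G] [Finite G]
    {ρ : G →* Aut W} {r : W ⟶ V} (hr : SGA1.IsQuot ρ r) (φ : V ⟶ T)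
    (h : ∀ (Ω : Type u) [Field Ω] [IsAlgClosed Ω] (a b : Spec (CommRingCat.of Ω) ⟶ W),
      a ≫ r ≫ φ = b ≫ r ≫ φ → ∃ g : G, a ≫ (ρ g).hom = b) :
    UniversallyInjective φ :=
  haveI : Surjective r := ⟨surjective hr⟩
  universallyInjective_of_geom r φ fun Ω _ _ a b hab => by
    obtain ⟨g, rfl⟩ := h Ω a b hab
    rw [Category.assoc, hr.inv]

end SGA1Q
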